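import Cfsg.Agent.Lib.TransvUniq.He.Main
import Cfsg.Agent.Lib.TransvUniq.L52.Main
import Cfsg.Agent.Lib.TransvUniq.L52.Stab
import Cfsg.Agent.Lib.AlperinRankTwo.Simple
import Cfsg.Agent.Lib.Golay.Mathieu
import Cfsg.Agent.Lib.Golay.M24
import Cfsg.Prelude.Def_Solvable

/-!
Assembly of the groups with the involution centraliser of a transvection of SL(5,2) from the fusion patterns; the
pattern of the Mathieu group is a hypothesis.
-/

set_option autoImplicit false
set_option maxRecDepth 20000
set_option linter.unusedSectionVars false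
set_option linter.style.haveILetI false

namespace Cfsg.Agent.TransvUniq.Assemble

open Cfsg.Agent.HeUniq.Model Cfsg.Agent.HeUniq.Fus
open L5 (S5 M5)

variable {G : Type*} [Group G] [Finite G]

/-- The printed transvection is conjugate to that of the frames. -/
theorem exists_frame_of_transvection (z : G) (hz : orderOf z = 2) (s : S5)
    (hs : (s : M5) = Matrix.transvection 0 1 1)
    (e : Subgroup.centralizer ({z} : Set G) ≃* Subgroup.centralizer ({s} : Set S5)) : Nonempty (Frame G z) := by
  have h1 : ((1 : Fin 5) ≠ 4) := by decide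
  obtain ⟨w, hw⟩ : ∃ w : S5, (w : M5) =
      Matrix.transvection (1 : Fin 5) 4 1 * (Matrix.transvection 4 1 1 * Matrix.transvection 1 4 1) :=
    ⟨⟨_, by rw [Matrix.det_mul, Matrix.det_mul, Matrix.det_transvection_of_ne _ _ h1,
      Matrix.det_transvection_of_ne _ _ h1.symm, one_mul, one_mul]⟩, rfl⟩
  let s₀ : S5 := ⟨sMat, Matrix.det_transvection_of_ne (0 : Fin 5) 4 (by decide) 1⟩
  have hconj : w * s * w⁻¹ = s₀ := by
    rw [mul_inv_eq_iff_eq_mul]
    refine Subtype.ext ?_
    rw [Matrix.SpecialLinearGroup.coe_mul, Matrix.SpecialLinearGroup.coe_mul, hw, hs]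
    show _ = sMat * _
    decide +kernel
  have hmap : (Subgroup.centralizer ({s} : Set S5)).map (MulAut.conj w).toMonoidHom =
      Subgroup.centralizer ({s₀} : Set S5) := by
    rw [← hconj]
    ext x
    rw [Subgroup.mem_map_equiv, Subgroup.mem_centralizer_singleton_iff, Subgroup.mem_centralizer_singleton_iff,
      MulAut.conj_symm_apply]
    constructor <;> intro h
    · calc x * (w * s * w⁻¹) = w * (w⁻¹ * x * w * s) * w⁻¹ := by group
        _ = w * (s * (w⁻¹ * x * w)) * w⁻¹ := by rw [h]
        _ = w * s * w⁻¹ * x := by group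
    · calc w⁻¹ * x * w * s = w⁻¹ * (x * (w * s * w⁻¹)) * w := by group
        _ = w⁻¹ * (w * s * w⁻¹ * x) * w := by rw [h]
        _ = s * (w⁻¹ * x * w) := by group
  exact exists_frame z hz s₀ rfl
    ((e.trans ((MulAut.conj w).subgroupMap (Subgroup.centralizer ({s} : Set S5)))).trans
      (MulEquiv.subgroupCongr hmap))

/-- In the isolated pattern the involution is the only conjugate in its centraliser. -/
theorem eq_of_32 {t : G} (F : Frame G t) (hm : mask F = 32) {g : G} (hg : Commute (g * t * g⁻¹) t) :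
    g * t * g⁻¹ = t := by
  obtain ⟨a, ha, he⟩ := F.surj _ hg.eq
  have hx : IsConj t (F.f a) := isConj_iff.2 ⟨g, he.symm⟩
  have hc : cls a < 8 := by
    refine cls_lt ha (F.inj (ha.mul ha) inC_one ?_) fun e => t_ne_one F ?_
    · rw [F.mul ha ha, he, F.one, ZT.sq (sq_t F) ⟨g, rfl⟩]
    · rw [e, F.one] at he
      exact conj_eq_one_iff.1 he.symm
  have hb := (conj_iff F hc).1 hx
  have h32 : ∀ k < 8, (32 : ℕ).testBit k = true → k = 5 := by decide
  obtain ⟨k, hk, hkk⟩ := to_rep F hc
  rw [h32 _ hc (hm ▸ hb), repz, F.fz, he, mul_inv_eq_iff_eq_mul, ← hk] at hkk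
  exact mul_left_cancel hkk

/-- The possibilities, the pattern of the Mathieu group and its twist given. -/
theorem branches {t : G} (F : Frame G t)
    (M : ∀ F' : Frame G t, mask F' = 115 → Nonempty (G ≃* Cfsg.M24)) :
    mask F = 32 ∨ (∃ v : Fin 5 → ZMod 2, v ≠ 0 ∧ Nonempty (G ≃* MulAction.stabilizer S5 v)) ∨
      Nonempty (G ≃* S5) ∨ Nonempty (G ≃* Cfsg.M24) ∨ Cfsg.Spor.IsoHe G := by
  have tw : ∀ m m' : ℕ, mask F = m →
      (∀ j < 8, m'.testBit j = m.testBit (([0, 3, 2, 1, 6, 5, 4, 7] : List ℕ).getD j 0)) →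
      m' < 256 → mask F.twist = m' := by
    intro m m' e hb hlt
    refine Nat.eq_of_testBit_eq fun j => ?_
    rcases Nat.lt_or_ge j 8 with hj | hj
    · rw [testBit_twist F hj, e, hb j hj]
    · rw [Nat.testBit_lt_two_pow ((mask_lt F.twist).trans_le (Nat.pow_le_pow_right two_pos hj)),
        Nat.testBit_lt_two_pow (hlt.trans_le (Nat.pow_le_pow_right two_pos hj))]
  have hl := mask_cases F
  simp only [List.mem_cons, List.not_mem_nil, or_false] at hl
  rcases hl with h | h | h | h | h | h | h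
  · exact Or.inl h
  · exact Or.inr (Or.inl (L52.exists_stab_iso F.twist (tw _ 96 h (by decide) (by norm_num))))
  · exact Or.inr (Or.inl (L52.exists_stab_iso F h))
  · obtain ⟨f, hf, -, htop⟩ := L52.exists_iso F h
    exact Or.inr (Or.inr (Or.inl
      ⟨((MonoidHom.ofInjective hf).trans ((MulEquiv.subgroupCongr htop).trans Subgroup.topEquiv)).symm⟩))
  · exact Or.inr (Or.inr (Or.inr (Or.inl (M F h))))
  · exact Or.inr (Or.inr (Or.inr (Or.inl (M F.twist (tw _ 115 h (by decide) (by norm_num))))))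
  · exact Or.inr (Or.inr (Or.inr (Or.inr (He.isoHe_of_mask F h))))

/-- The tetrachotomy. -/
theorem tetrachotomy (s : S5) (hs : (s : M5) = Matrix.transvection 0 1 1) (z : G) (hz : orderOf z = 2)
    (e : Subgroup.centralizer ({z} : Set G) ≃* Subgroup.centralizer ({s} : Set S5))
    (hnwc : ∃ g : G, (∃ hq : g * z * g⁻¹ ∈ Subgroup.centralizer ({z} : Set G),
      (⟨g * z * g⁻¹, hq⟩ : Subgroup.centralizer ({z} : Set G)) ∈
        Cfsg.pCore 2 (Subgroup.centralizer ({z} : Set G))) ∧ g * z * g⁻¹ ≠ z)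
    (M : ∀ F' : Frame G z, mask F' = 115 → Nonempty (G ≃* Cfsg.M24)) :
    (∃ v : Fin 5 → ZMod 2, v ≠ 0 ∧ Nonempty (G ≃* MulAction.stabilizer S5 v)) ∨
      Nonempty (G ≃* S5) ∨ Nonempty (G ≃* Cfsg.M24) ∨ Cfsg.Spor.IsoHe G := by
  obtain ⟨F⟩ := exists_frame_of_transvection z hz s hs e
  obtain ⟨g, ⟨hq, -⟩, hne⟩ := hnwc
  exact (branches F M).resolve_left fun h => hne (eq_of_32 F h (Subgroup.mem_centralizer_singleton_iff.1 hq))

theorem exists_dual : ∀ v : Fin 5 → ZMod 2, ∃ f : Fin 5 → ZMod 2, f ≠ 0 ∧ dotProduct f v = 0 := by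
  decide +kernel

theorem exists_pair_vec : ∀ v : Fin 5 → ZMod 2, ∃ f w : Fin 5 → ZMod 2, f ≠ 0 ∧ dotProduct f v = 0 ∧
    dotProduct f w = 0 ∧ w ≠ 0 ∧ w ≠ v := by
  decide +kernel

/-- The stabiliser of a vector is not simple. -/
theorem not_simple_stab {v : Fin 5 → ZMod 2} (hv : v ≠ 0) : ¬ IsSimpleGroup (MulAction.stabilizer S5 v) := by
  intro hs
  have hsmul : ∀ (g : S5) (x : Fin 5 → ZMod 2), g • x = (g : M5).mulVec x := fun g x => rfl
  let N : Subgroup (MulAction.stabilizer S5 v) :=
    { carrier := {g | ∀ x, (g : S5) • x = x ∨ (g : S5) • x = x + v}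
      one_mem' := fun x => Or.inl (one_smul _ x)
      mul_mem' := by
        intro a b ha hb x
        have hav : ∀ y, (a : S5) • (y + v) = (a : S5) • y + v := fun y => by
          rw [hsmul, hsmul, Matrix.mulVec_add, ← hsmul (a : S5) v, show (a : S5) • v = v from a.2]
        have h2 : v + v = 0 := funext fun i => CharTwo.add_self_eq_zero _
        show ((a : S5) * (b : S5)) • x = x ∨ ((a : S5) * (b : S5)) • x = x + v
        rw [mul_smul]
        rcases hb x with e | e <;> rw [e]
        · exact ha x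
        · rw [hav]
          rcases ha x with e' | e' <;> rw [e']
          · exact Or.inr rfl
          · rw [add_assoc, h2, add_zero]; exact Or.inl rfl
      inv_mem' := by
        intro a ha x
        rcases ha ((a : S5)⁻¹ • x) with e | e <;> rw [smul_inv_smul] at e
        · exact Or.inl e.symm
        · refine Or.inr ?_
          show (a : S5)⁻¹ • x = x + v
          conv_rhs => rw [e]
          rw [add_assoc, show v + v = 0 from funext fun i => CharTwo.add_self_eq_zero _, add_zero] }
  haveI hN : N.Normal := ⟨fun n hn g x => by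
    show ((g : S5) * (n : S5) * (g : S5)⁻¹) • x = x ∨ ((g : S5) * (n : S5) * (g : S5)⁻¹) • x = x + v
    rw [mul_smul, mul_smul]
    rcases hn ((g : S5)⁻¹ • x) with e | e <;> rw [e]
    · exact Or.inl (smul_inv_smul _ _)
    · refine Or.inr ?_
      rw [hsmul, Matrix.mulVec_add, ← hsmul, ← hsmul, smul_inv_smul, show (g : S5) • v = v from g.2]⟩
  have mk : ∀ f w : Fin 5 → ZMod 2, dotProduct f w = 0 → dotProduct f v = 0 →
      ∃ g : MulAction.stabilizer S5 v, ∀ x, (g : S5) • x = x + dotProduct f x • w := by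
    intro f w hfw hfv
    have hM : ∀ x, (1 + Matrix.vecMulVec w f : M5).mulVec x = x + dotProduct f x • w := fun x => by
      rw [Matrix.add_mulVec, Matrix.one_mulVec]
      congr 1
      ext i
      simp only [Matrix.mulVec, Matrix.vecMulVec_apply, dotProduct, Pi.smul_apply, smul_eq_mul, Finset.sum_mul]
      exact Finset.sum_congr rfl fun j _ => by ring
    have hsq : (1 + Matrix.vecMulVec w f : M5) * (1 + Matrix.vecMulVec w f) = 1 := by
      refine Matrix.toLin'.injective (LinearMap.ext fun x => ?_)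
      rw [Matrix.toLin'_apply, Matrix.toLin'_apply, ← Matrix.mulVec_mulVec, hM, hM, Matrix.one_mulVec, add_assoc]
      simp [dotProduct_smul, hfw, CharTwo.add_self_eq_zero]
    have hd : (1 + Matrix.vecMulVec w f : M5).det = 1 := by
      have := congrArg Matrix.det hsq
      rw [Matrix.det_mul, Matrix.det_one] at this
      revert this
      generalize (1 + Matrix.vecMulVec w f : M5).det = d
      revert d; decide
    refine ⟨⟨⟨_, hd⟩, MulAction.mem_stabilizer_iff.2 ?_⟩, hM⟩
    show (1 + Matrix.vecMulVec w f : M5).mulVec v = v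
    rw [hM, hfv, zero_smul, add_zero]
  have hb : ∀ f : Fin 5 → ZMod 2, f ≠ 0 → ∃ x, dotProduct f x = 1 := fun f hf => by
    obtain ⟨i, hi⟩ := Function.ne_iff.1 hf
    exact ⟨Pi.single i 1, by
      rw [dotProduct_single, mul_one]
      have key : ∀ c : ZMod 2, c ≠ 0 → c = 1 := by decide
      exact key _ hi⟩
  rcases hs.eq_bot_or_eq_top_of_normal N hN with e | e
  · obtain ⟨f, hf, hfv⟩ := exists_dual v
    obtain ⟨g, hg⟩ := mk f v hfv hfv
    have hgN : g ∈ N := fun x => by
      rw [hg]
      have : ∀ c : ZMod 2, c = 0 ∨ c = 1 := by decide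
      rcases this (dotProduct f x) with h | h <;> rw [h]
      · exact Or.inl (by rw [zero_smul, add_zero])
      · exact Or.inr (by rw [one_smul])
    rw [e, Subgroup.mem_bot] at hgN
    obtain ⟨x, hx⟩ := hb f hf
    have := hg x
    rw [hgN, hx, one_smul, OneMemClass.coe_one, one_smul] at this
    exact hv (left_eq_add.1 this)
  · obtain ⟨f, w, hf, hfv, hfw, hw0, hwv⟩ := exists_pair_vec v
    obtain ⟨g, hg⟩ := mk f w hfw hfv
    obtain ⟨x, hx⟩ := hb f hf
    have hgN : g ∈ N := e ▸ Subgroup.mem_top g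
    rcases hgN x with h | h <;> rw [hg, hx, one_smul] at h
    · exact hw0 (add_eq_left.1 h)
    · exact hwv (add_left_cancel h)

theorem not_comm_of_equiv [IsSimpleGroup G] (z : G) (hz : orderOf z = 2)
    (hC : Nat.card (Subgroup.centralizer ({z} : Set G)) = 21504) : ¬ IsMulCommutative G := by
  intro h
  have hn : (Subgroup.zpowers z).Normal := ⟨fun n hn g => by
    rw [h.is_comm.comm g n, mul_assoc, mul_inv_cancel, mul_one]; exact hn⟩
  rcases hn.eq_bot_or_eq_top with e | e
  · rw [Subgroup.zpowers_eq_bot] at e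
    rw [e, orderOf_one] at hz
    omega
  · have h2 := Nat.card_zpowers z
    rw [e, Subgroup.card_top, hz] at h2
    have := Subgroup.card_le_card_group (Subgroup.centralizer ({z} : Set G))
    omega

/-- The simple groups among them. -/
theorem simple_cases [IsSimpleGroup G] (s : S5) (hs : (s : M5) = Matrix.transvection 0 1 1) (z : G)
    (hz : orderOf z = 2) (e : Subgroup.centralizer ({z} : Set G) ≃* Subgroup.centralizer ({s} : Set S5))
    (M : ∀ F' : Frame G z, mask F' = 115 → Nonempty (G ≃* Cfsg.M24)) :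
    Nonempty (G ≃* S5) ∨ Nonempty (G ≃* Cfsg.M24) ∨ Cfsg.Spor.IsoHe G := by
  obtain ⟨F⟩ := exists_frame_of_transvection z hz s hs e
  rcases branches F M with h | ⟨v, hv, ⟨f⟩⟩ | h
  · exfalso
    refine AlperinRankTwo.no_isolated (not_comm_of_equiv z hz (L52.card_cent F)) z ⟨hz, fun g hg => ?_⟩
    exact eq_of_32 F h hg.symm
  · exact absurd f.symm.isSimpleGroup (not_simple_stab hv)
  · exact h

/-- The orders: Held's trichotomy. -/
theorem trichotomy [IsSimpleGroup G] (s : S5) (hs : (s : M5) = Matrix.transvection 0 1 1) (z : G)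
    (hz : orderOf z = 2) (e : Subgroup.centralizer ({z} : Set G) ≃* Subgroup.centralizer ({s} : Set S5))
    (M : ∀ F' : Frame G z, mask F' = 115 → Nonempty (G ≃* Cfsg.M24)) :
    Nonempty (G ≃* S5) ∨ Cfsg.IsM24 G ∨ Cfsg.IsHe G := by
  rcases simple_cases s hs z hz e M with h | h | h
  · exact Or.inl h
  · obtain ⟨f⟩ := h
    exact Or.inr (Or.inl ⟨inferInstance, by rw [Nat.card_congr f.toEquiv]; exact Cfsg.Agent.Golay.card_M24⟩)
  · obtain ⟨f⟩ := h
    exact Or.inr (Or.inr ⟨inferInstance, by
      rw [Nat.card_congr (f.trans RigidGraph.He.presentedEquiv).toEquiv, RigidGraph.He.card_heGroup]⟩)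

/-- Two simple groups of this type of one order are isomorphic. -/
theorem determined {H : Type*} [Group H] [Finite H] [IsSimpleGroup G] [IsSimpleGroup H] (s : S5)
    (hs : (s : M5) = Matrix.transvection 0 1 1) (j : G) (k : H) (hj : orderOf j = 2) (hk : orderOf k = 2)
    (e : Subgroup.centralizer ({j} : Set G) ≃* Subgroup.centralizer ({s} : Set S5))
    (f : Subgroup.centralizer ({k} : Set H) ≃* Subgroup.centralizer ({s} : Set S5))
    (hcard : Nat.card G = Nat.card H) (M : ∀ F' : Frame G j, mask F' = 115 → Nonempty (G ≃* Cfsg.M24))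
    (M' : ∀ F' : Frame H k, mask F' = 115 → Nonempty (H ≃* Cfsg.M24)) : Nonempty (G ≃* H) := by
  have hM : Nat.card Cfsg.M24 = 244823040 := Cfsg.Agent.Golay.card_M24
  have hH : Nat.card Cfsg.Spor.He = 4030387200 := by
    rw [Nat.card_congr RigidGraph.He.presentedEquiv.toEquiv, RigidGraph.He.card_heGroup]
  rcases simple_cases s hs j hj e M with a | a | a <;>
    rcases simple_cases s hs k hk f M' with b | b | b <;>
    obtain ⟨a⟩ := a <;> obtain ⟨b⟩ := b <;>
    first
    | exact ⟨a.trans b.symm⟩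
    | (exfalso
       have ha := Nat.card_congr a.toEquiv
       have hb := Nat.card_congr b.toEquiv
       have := L5.card_S5
       omega)

end Cfsg.Agent.TransvUniq.Assemble
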